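import Mathlib
import Groth.Agent.Ega43FP2.EquidimFibre
import Groth.Agent.QGorEnd.Equidim
import Groth.Agent.FBaseGeom.AssTensor
import Groth.Agent.RefRank.Stalk
import Groth.Agent.AlgSp3.FibreInv
import Groth.Agent.S2668
import Groth.Prelude.Def_RelCanon
import Groth.Prelude.Def_Cyc

/-!
# Neighbourhoods on which the fibres are `(S_k)`, equidimensional, of bounded bad locus
-/

set_option autoImplicit false
universe u

open CategoryTheory AlgebraicGeometry

set_option synthInstance.maxHeartbeats 400000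
set_option maxHeartbeats 1600000
set_option linter.unusedSectionVars false

namespace Groth.QGorNhd

theorem hasSk_mono {Z : Scheme.{u}} {z : Z} {j k : ℕ} (hjk : j ≤ k)
    (h : LocCoh.HasSk k (Z.presheaf.stalk z) (Z.presheaf.stalk z)) :
    LocCoh.HasSk j (Z.presheaf.stalk z) (Z.presheaf.stalk z) := by
  rw [Groth.Ega43FP2.hasSk_stalk_iff] at h ⊢
  exact fun w hw => (min_le_min_right _ (by exact_mod_cast hjk)).trans (h w hw)

theorem hasSk_of_isOpenImmersion {W Z : Scheme.{u}} (j : W ⟶ Z) [IsOpenImmersion j] (w : W) (k : ℕ)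
    (h : LocCoh.HasSk k (Z.presheaf.stalk (j w)) (Z.presheaf.stalk (j w))) :
    LocCoh.HasSk k (W.presheaf.stalk w) (W.presheaf.stalk w) := by
  rw [Groth.Ega43FP2.hasSk_stalk_iff] at h ⊢
  exact fun v hv => (Groth.Ega4b.skLoc_of_ringEquiv
    (asIso (j.stalkMap v)).commRingCatIsoToRingEquiv).1 (h _ (hv.map j.continuous))

theorem skAt_structure_iff {Z : Scheme.{u}} (z : Z) (k : ℕ) :
    RelCanon.SkAt k (Coh.structureModule Z) z ↔
      LocCoh.HasSk k (Z.presheaf.stalk z) (Z.presheaf.stalk z) :=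
  ⟨Groth.Agent.S2668.hasSk_congr (Groth.RefRank.oneEquiv z).symm,
    Groth.Agent.S2668.hasSk_congr (Groth.RefRank.oneEquiv z)⟩

variable {X Y : Scheme.{u}} (f : X ⟶ Y) [LocallyOfFinitePresentation f]

theorem lft_toSpec (s : Y) : LocallyOfFiniteType (f.fiberToSpecResidueField s) :=
  inferInstanceAs (LocallyOfFiniteType (Limits.pullback.snd f (Y.fromSpecResidueField s)))

/-- Maximal generizations of an `(S_2)` point of a fibre have the same height. -/
theorem exists_height_max (s : Y) (z : f.fiber s)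
    (hS : LocCoh.HasSk 2 ((f.fiber s).presheaf.stalk z) ((f.fiber s).presheaf.stalk z)) :
    ∃ e : ℕ, ∀ w : f.fiber s, IsMax w → w ⤳ z → Order.height w = (e : ℕ∞) := by
  have := lft_toSpec f s
  have := Groth.Ega43FP2.isLocallyNoetherian_fibre f s
  let R := (f.fiber s).presheaf.stalk z
  let φ := ((f.fiber s).fromSpecStalk z).base
  have hemb := ((f.fiber s).fromSpecStalk z).isEmbedding
  have hrange : ∀ w : f.fiber s, w ⤳ z → ∃ q : PrimeSpectrum R, φ q = w := fun w hw =>
    ((f.fiber s).range_fromSpecStalk (x := z)).ge hw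
  have hgen : ∀ q : PrimeSpectrum R, φ q ⤳ z := fun q => by
    have : φ q ∈ Set.range ((f.fiber s).fromSpecStalk z).base := ⟨q, rfl⟩
    rw [Scheme.range_fromSpecStalk] at this
    exact this
  have hord : ∀ q q' : PrimeSpectrum R, φ q ≤ φ q' ↔ q' ≤ q := fun q q' => by
    rw [Scheme.le_iff_specializes, PrimeSpectrum.le_iff_specializes]
    exact hemb.toIsInducing.specializes_iff
  have hlt : ∀ q q' : PrimeSpectrum R, φ q < φ q' ↔ q' < q := fun q q' => by
    rw [lt_iff_le_not_ge, lt_iff_le_not_ge, hord, hord]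
  obtain ⟨a, ha⟩ := Groth.Ega43FP2.exists_height_eq_nat f s z
  have hdim : ∀ (p : PrimeSpectrum R) (b : ℕ), Order.height (φ p) = (b : ℕ∞) →
      a ≤ b ∧ Order.coheight p = ((b - a : ℕ) : ℕ∞) := fun p b hb => by
    obtain ⟨h1, h2⟩ := Groth.Ega43FP2.ringKrullDim_quotient_fibre f s z p ha hb
    rw [Groth.MiscGeom.QGor.ringKrullDim_quotient_eq_coheight] at h2
    exact ⟨h1, WithBot.coe_inj.1 (h2.trans rfl)⟩
  have hcovEq : ∀ P Q p : PrimeSpectrum R, P ⋖ p → Q ⋖ p → Order.coheight P = Order.coheight Q := by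
    intro P Q p hP hQ
    have key : ∀ P' : PrimeSpectrum R, P' ⋖ p → Order.height (φ P') = Order.height (φ p) + 1 := by
      intro P' hP'
      refine Groth.Variety2.Dim.height_eq_of_covBy (k := Y.residueField s) (f.fiberToSpecResidueField s) ⟨(hlt _ _).2 hP'.1, ?_⟩
      intro c hpc hcP
      obtain ⟨q, rfl⟩ := hrange c ((Scheme.le_iff_specializes.1 hpc.le).trans (hgen p))
      exact hP'.2 ((hlt _ _).1 hcP) ((hlt _ _).1 hpc)
    obtain ⟨b, hb⟩ := Groth.Ega43FP2.exists_height_eq_nat f s (φ P)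
    rw [(hdim P b hb).2, (hdim Q b (((key Q hQ).trans (key P hP).symm).trans hb)).2]
  obtain ⟨n, hn⟩ : ∃ n : ℕ, ringKrullDim R = (n : WithBot ℕ∞) := by
    obtain ⟨n, hn⟩ := Groth.FibreDim.exists_coheight_eq_natCast z
    exact ⟨n, by rw [ringKrullDim_stalk_eq_coheight, hn]; rfl⟩
  have heq := Groth.QGorEnd.isEquidim_of_hasSk_two_of_covBy hcovEq n hn hS
  refine ⟨a + n, fun w hw hwz => ?_⟩
  obtain ⟨q, rfl⟩ := hrange w hwz
  obtain ⟨b, hb⟩ := Groth.Ega43FP2.exists_height_eq_nat f s (φ q)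
  have hq : q.asIdeal ∈ minimalPrimes R := by
    refine ⟨⟨q.2, bot_le⟩, fun Q hQ hle => ?_⟩
    exact (hord ⟨Q, hQ.1⟩ q).1 (hw ((hord q ⟨Q, hQ.1⟩).2 hle))
  have h := heq q.asIdeal hq
  rw [(Groth.Ega43FP2.ringKrullDim_quotient_fibre f s z q ha hb).2, hn, Nat.cast_inj] at h
  have := (hdim q b hb).1
  rw [hb, Nat.cast_inj]
  omega

theorem isFT_structureModule : CohB1.IsFT (Coh.structureModule X) := by
  have : CohB1.IsFP (Coh.structureModule X) := Groth.Ega43FP2.isFP_structureModule
  infer_instance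

/-- A maximal point of a fibre is associated. -/
theorem mem_ass_of_isMax (s : Y) {w : f.fiber s} (hw : IsMax w) :
    w ∈ AssSch.Ass ((Scheme.Modules.pullback (f.fiberι s)).obj (Coh.structureModule X)) := by
  have := Groth.Ega43FP2.isLocallyNoetherian_fibre f s
  rw [Groth.Ega43FP2.mem_ass_fibre_iff f _ isFT_structureModule,
    (Groth.Ega43FP2.depthAt_suppAt_structure f s w).1]
  have h := Groth.LocCohBase.depth_le_supportDim (R := (f.fiber s).presheaf.stalk w)
    ((f.fiber s).presheaf.stalk w)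
  rw [Module.supportDim_self_eq_ringKrullDim, ringKrullDim_stalk_eq_coheight,
    Order.coheight_eq_zero.mpr hw] at h
  exact nonpos_iff_eq_zero.1 (WithBot.coe_le_coe.1 h)

/-- An associated point generizing an `(S_k)` point of a fibre, `k ≥ 1`, is maximal. -/
theorem isMax_of_mem_ass (s : Y) {z w : f.fiber s} {k : ℕ} (hk : 1 ≤ k)
    (hS : LocCoh.HasSk k ((f.fiber s).presheaf.stalk z) ((f.fiber s).presheaf.stalk z))
    (hw : w ∈ AssSch.Ass ((Scheme.Modules.pullback (f.fiberι s)).obj (Coh.structureModule X)))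
    (hwz : w ⤳ z) : IsMax w := by
  rw [Groth.Ega43FP2.mem_ass_fibre_iff f _ isFT_structureModule,
    (Groth.Ega43FP2.depthAt_suppAt_structure f s w).1] at hw
  have h := (Groth.Ega43FP2.hasSk_stalk_iff z k).1 hS w hwz
  rw [Groth.Ega4b.SkLoc, hw, ringKrullDim_stalk_eq_coheight, min_le_iff] at h
  rcases h with h | h
  · norm_cast at h
    omega
  · exact Order.coheight_eq_zero.mp (nonpos_iff_eq_zero.1 (WithBot.coe_le_coe.1 h))

/-- Transport between a fibre and the fibre through one of its points. -/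
theorem dim_stalk_asFiber (s : Y) (z : f.fiber s) :
    ringKrullDim ((f.fiber (f (f.fiberι s z))).presheaf.stalk (f.asFiber (f.fiberι s z))) =
      ringKrullDim ((f.fiber s).presheaf.stalk z) := by
  suffices key : ∀ (x : X) (s : Y) (_ : f.base x = s) (z : f.fiber s), f.fiberι s z = x →
      ringKrullDim ((f.fiber (f x)).presheaf.stalk (f.asFiber x)) =
        ringKrullDim ((f.fiber s).presheaf.stalk z) from
    key _ s (Groth.FibreDim.apply_fiberι f s z) z rfl
  rintro x _ rfl z hz
  rw [show z = f.asFiber x from (f.fiberι _).isEmbedding.injective (hz.trans (f.fiberι_asFiber x).symm)]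

end Groth.QGorNhd
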